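import Mathlib

/-!
Interpolation on finitely many fat points: a generating space of functions containing `1` spans a finite
product of local rings in degree one less than the total thickness.
-/

set_option autoImplicit false

universe u v

namespace Groth.Agent.FinPtsInterp

variable {k : Type u} [Field k] {B : Type v} [CommRing B] [Algebra k B] {V : Submodule k B}

/-- The elements of `V` lying in `m` generate `m`. -/
theorem le_span_inter (hgen : Algebra.adjoin k (V : Set B) = ⊤) (m : Ideal B) (hm : m ≠ ⊤)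
    (hres : ∀ b : B, ∃ c : k, b - algebraMap k B c ∈ m) :
    m ≤ Ideal.span {v : B | v ∈ V ∧ v ∈ m ∨ ∃ (w : B) (c : k), w ∈ V ∧ v = w - algebraMap k B c ∧ v ∈ m} := by
  set J := Ideal.span {v : B | v ∈ V ∧ v ∈ m ∨ ∃ (w : B) (c : k), w ∈ V ∧ v = w - algebraMap k B c ∧ v ∈ m} with hJ
  have hJm : J ≤ m := Ideal.span_le.2 fun v hv => by
    rcases hv with h | ⟨w, c, -, -, h⟩
    · exact h.2
    · exact h
  have key : ∀ b : B, ∃ c : k, b - algebraMap k B c ∈ J := fun b => by
    have hb : b ∈ Algebra.adjoin k (V : Set B) := hgen ▸ Algebra.mem_top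
    induction hb using Algebra.adjoin_induction with
    | mem v hv =>
      obtain ⟨c, hc⟩ := hres v
      exact ⟨c, Ideal.subset_span (Or.inr ⟨v, c, hv, rfl, hc⟩)⟩
    | algebraMap c => exact ⟨c, by rw [sub_self]; exact J.zero_mem⟩
    | add a b _ _ ha hb =>
      obtain ⟨c, hc⟩ := ha
      obtain ⟨d, hd⟩ := hb
      exact ⟨c + d, by rw [map_add, add_sub_add_comm]; exact J.add_mem hc hd⟩
    | mul a b _ _ ha hb =>
      obtain ⟨c, hc⟩ := ha
      obtain ⟨d, hd⟩ := hb
      refine ⟨c * d, ?_⟩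
      rw [map_mul, show a * b - algebraMap k B c * algebraMap k B d =
        b * (a - algebraMap k B c) + algebraMap k B c * (b - algebraMap k B d) by ring]
      exact J.add_mem (J.mul_mem_left _ hc) (J.mul_mem_left _ hd)
  intro b hb
  obtain ⟨c, hc⟩ := key b
  have h1 : algebraMap k B c ∈ m := by
    have := m.sub_mem hb (hJm hc)
    rwa [sub_sub_cancel] at this
  rcases eq_or_ne c 0 with rfl | h0
  · rwa [map_zero, sub_zero] at hc
  · exact absurd (m.eq_top_of_isUnit_mem h1 ((isUnit_iff_ne_zero.2 h0).map _)) hm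

/-- The elements of `V` lying in `m` generate `m`, when `1 ∈ V`. -/
theorem le_span_inter' (h1 : (1 : B) ∈ V) (hgen : Algebra.adjoin k (V : Set B) = ⊤) (m : Ideal B) (hm : m ≠ ⊤)
    (hres : ∀ b : B, ∃ c : k, b - algebraMap k B c ∈ m) :
    m ≤ Ideal.span {v : B | v ∈ V ∧ v ∈ m} := by
  refine (le_span_inter hgen m hm hres).trans (Ideal.span_le.2 fun v hv => Ideal.subset_span ?_)
  rcases hv with h | ⟨w, c, hw, rfl, h⟩
  · exact h
  · refine ⟨V.sub_mem hw ?_, h⟩
    rw [Algebra.algebraMap_eq_smul_one]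
    exact V.smul_mem c h1

/-- Modulo `m ^ (μ + 1)` everything comes from `V ^ μ`. -/
theorem exists_sub_mem_pow (h1 : (1 : B) ∈ V) (hgen : Algebra.adjoin k (V : Set B) = ⊤) (m : Ideal B) (hm : m ≠ ⊤)
    (hres : ∀ b : B, ∃ c : k, b - algebraMap k B c ∈ m) (μ : ℕ) :
    ∀ b : B, ∃ v ∈ V ^ μ, b - v ∈ m ^ (μ + 1) := by
  have hone : (1 : Submodule k B) ≤ V := Submodule.one_le.2 h1
  have step : ∀ μ : ℕ, ∀ b ∈ m ^ μ, ∃ v ∈ V ^ μ, b - v ∈ m ^ (μ + 1) := by
    intro μ
    induction μ with
    | zero =>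
      intro b _
      obtain ⟨c, hc⟩ := hres b
      refine ⟨algebraMap k B c, ?_, by rwa [zero_add, pow_one]⟩
      rw [pow_zero]; exact Submodule.algebraMap_mem c
    | succ μ ih =>
      have key : ∀ w ∈ Ideal.span {v : B | v ∈ V ∧ v ∈ m}, ∀ a ∈ m ^ μ,
          ∃ v ∈ V ^ (μ + 1), a * w - v ∈ m ^ (μ + 1 + 1) := by
        intro w hw
        induction hw using Submodule.span_induction with
        | mem u hu =>
          intro a ha
          obtain ⟨v, hv, hav⟩ := ih a ha
          refine ⟨v * u, by rw [pow_succ]; exact Submodule.mul_mem_mul hv hu.1, ?_⟩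
          rw [← sub_mul, pow_succ m (μ + 1)]
          exact Ideal.mul_mem_mul hav hu.2
        | zero => exact fun a _ => ⟨0, zero_mem _, by simp⟩
        | add x y _ _ hx hy =>
          intro a ha
          obtain ⟨v, hv, hxv⟩ := hx a ha
          obtain ⟨v', hv', hyv⟩ := hy a ha
          refine ⟨v + v', add_mem hv hv', ?_⟩
          rw [mul_add, add_sub_add_comm]
          exact add_mem hxv hyv
        | smul r x _ hx =>
          intro a ha
          obtain ⟨v, hv, hxv⟩ := hx (a * r) (Ideal.mul_mem_right r _ ha)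
          exact ⟨v, hv, by rwa [smul_eq_mul, ← mul_assoc]⟩
      intro b hb
      rw [pow_succ] at hb
      induction hb using Submodule.mul_induction_on' with
      | mem_mul_mem a ha w hw => exact key w (le_span_inter' h1 hgen m hm hres hw) a ha
      | add x _ y _ hx hy =>
        obtain ⟨v, hv, hxv⟩ := hx
        obtain ⟨v', hv', hyv⟩ := hy
        refine ⟨v + v', add_mem hv hv', ?_⟩
        rw [add_sub_add_comm]
        exact add_mem hxv hyv
  induction μ with
  | zero => exact fun b => step 0 b (by simp)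
  | succ μ ih =>
    intro b
    obtain ⟨v, hv, hbv⟩ := ih b
    obtain ⟨v', hv', hbv'⟩ := step (μ + 1) _ hbv
    exact ⟨v + v', add_mem (pow_le_pow_right' hone (Nat.le_succ μ) hv) hv', by rwa [← sub_sub]⟩

/-- A product of powers lies in the corresponding power of `V`. -/
theorem prod_pow_mem {ι : Type*} (s : Finset ι) (f : ι → B) (hf : ∀ i ∈ s, f i ∈ V) (e : ι → ℕ) :
    (∏ i ∈ s, f i ^ e i) ∈ V ^ (∑ i ∈ s, e i) := by
  classical
  induction s using Finset.induction_on with
  | empty => rw [Finset.prod_empty, Finset.sum_empty, pow_zero]; exact Submodule.one_le.1 le_rfl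
  | insert a s ha ih =>
    rw [Finset.prod_insert ha, Finset.sum_insert ha, pow_add]
    exact Submodule.mul_mem_mul (Submodule.pow_mem_pow _ (hf a (Finset.mem_insert_self a s)) _)
      (ih fun i hi => hf i (Finset.mem_insert_of_mem hi))

/-- Interpolation. -/
theorem pow_eq_top (h1 : (1 : B) ∈ V) (hgen : Algebra.adjoin k (V : Set B) = ⊤) {ι : Type*} [Fintype ι]
    (m : ι → Ideal B) (hmax : ∀ i, (m i).IsMaximal) (hinj : Function.Injective m)
    (hres : ∀ (i : ι) (b : B), ∃ c : k, b - algebraMap k B c ∈ m i) (μ : ι → ℕ)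
    (hzero : ∀ b : B, (∀ i, b ∈ m i ^ (μ i + 1)) → b = 0) (D : ℕ) (hD : ∑ i, (μ i + 1) ≤ D + 1) :
    V ^ D = ⊤ := by
  classical
  have hsep : ∀ x y : ι, ∃ l ∈ V, y ≠ x → l ∈ m y ∧ l ∉ m x := by
    intro x y
    rcases eq_or_ne y x with h | h
    · exact ⟨1, h1, fun h' => absurd h h'⟩
    · by_contra hne
      push Not at hne
      refine h (hinj ((hmax y).eq_of_le (hmax x).ne_top ?_))
      refine (le_span_inter' h1 hgen (m y) (hmax y).ne_top (hres y)).trans (Ideal.span_le.2 fun v hv => ?_)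
      exact (hne v hv.1).2 hv.2
  choose l hlV hl using hsep
  have hloc : ∀ (x : ι) (b : B), ∃ g ∈ V ^ D, g - b ∈ m x ^ (μ x + 1) ∧ ∀ y, y ≠ x → g ∈ m y ^ (μ y + 1) := by
    intro x b
    let F : B := ∏ y ∈ Finset.univ.erase x, l x y ^ (μ y + 1)
    have hFV : F ∈ V ^ (∑ y ∈ Finset.univ.erase x, (μ y + 1)) := prod_pow_mem _ _ (fun y _ => hlV x y) _
    have hFy : ∀ y, y ≠ x → F ∈ m y ^ (μ y + 1) := fun y hy => by
      refine Ideal.mem_of_dvd _ ?_ (Ideal.pow_mem_pow ((hl x y hy).1) (μ y + 1))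
      exact Finset.dvd_prod_of_mem (fun y => l x y ^ (μ y + 1)) (Finset.mem_erase.2 ⟨hy, Finset.mem_univ y⟩)
    have hFx : F ∉ m x := fun h => by
      obtain ⟨y, hy, hyx⟩ := ((hmax x).isPrime.prod_mem_iff).1 h
      exact (hl x y (Finset.mem_erase.1 hy).1).2 ((hmax x).isPrime.mem_of_pow_mem _ hyx)
    have hsup : Ideal.span {F} ⊔ m x ^ (μ x + 1) = ⊤ := by
      refine Ideal.sup_pow_eq_top ((hmax x).out.2 _ (lt_of_le_of_ne le_sup_right fun e => hFx ?_))
      rw [e]; exact Ideal.mem_sup_left (Ideal.mem_span_singleton_self F)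
    obtain ⟨a, ha, e, he, hae⟩ := Submodule.mem_sup.1 (hsup ▸ Submodule.mem_top : b ∈ Ideal.span {F} ⊔ m x ^ (μ x + 1))
    obtain ⟨u, rfl⟩ := Ideal.mem_span_singleton'.1 ha
    obtain ⟨v, hv, huv⟩ := exists_sub_mem_pow h1 hgen (m x) (hmax x).ne_top (hres x) (μ x) u
    refine ⟨v * F, ?_, ?_, fun y hy => Ideal.mul_mem_left _ _ (hFy y hy)⟩
    · have h := Submodule.mul_mem_mul hv hFV
      rw [← pow_add] at h
      refine pow_le_pow_right' (Submodule.one_le.2 h1) ?_ h
      have := Finset.add_sum_erase Finset.univ (fun y => μ y + 1) (Finset.mem_univ x)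
      omega
    · rw [← hae, show v * F - (u * F + e) = -((u - v) * F + e) by ring]
      exact neg_mem (add_mem (Ideal.mul_mem_right _ _ huv) he)
  refine eq_top_iff.2 fun b _ => ?_
  choose g hgV hgx hgy using fun x => hloc x b
  have hb : b = ∑ x, g x := by
    refine (sub_eq_zero.1 (hzero _ fun i => ?_)).symm
    rw [← Finset.add_sum_erase Finset.univ g (Finset.mem_univ i), add_sub_right_comm]
    exact add_mem (hgx i) (Ideal.sum_mem _ fun x hx => hgy x i (Finset.mem_erase.1 hx).1.symm)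
  rw [hb]
  exact Submodule.sum_mem _ fun x _ => hgV x

end Groth.Agent.FinPtsInterp
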