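import Groth.Agent.FinPtsInterp.Points
import Groth.Agent.CurveRR.GlobGen
import Groth.Agent.SuppZero.Basic
import Groth.Agent.RegTilde.ExtTwist
import Groth.Agent.ProjCech.Main

/-!
Regularity of the ideal of finitely many fat points.
-/

set_option autoImplicit false
set_option backward.isDefEq.respectTransparency false
set_option backward.isDefEq.respectTransparency.types false

universe u

open CategoryTheory CategoryTheory.Limits AlgebraicGeometry TopologicalSpace Opposite
open Groth.Agent.QC (res resO res_res res_self app_res res_smul section_eq_of_locally)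
open Groth.Agent.SerrePn (Poly Forms)
open TMul (tm)
open Groth.Agent.CohFinite (tmap tmap_tm)

noncomputable section

namespace Groth.Agent.FinPtsInterp

variable {k : Type u} [Field k] {N : ℕ}

local notation "P" => CohB1.ProjSpace N k
local notation "ℳ" => CohB1.polyGrading N k

/-- A form on the chart of a linear form. -/
theorem res_degSection {m : ℕ} {g f : Poly k N} (hg : g ∈ ℳ 1) (hf : f ∈ ℳ m) :
    res (GrTilde.tilde ℳ ℳ (m : ℤ)) (le_top : Proj.basicOpen ℳ g ≤ ⊤) (GrT.degSection hf) =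
      GrT.deh ℳ hg f • res (GrTilde.tilde ℳ ℳ (m : ℤ)) le_top (GrT.degSection (GrT.pow_mem_one ℳ hg m)) := by
  refine GrT.pt_ext ℳ ℳ (M := Poly k N) fun y => ?_
  have hy := GrT.not_mem_pow ℳ (GrT.not_mem_of_mem ℳ le_rfl y) m
  have h1 : (1 : Poly k N) ∉ y.1.asHomogeneousIdeal :=
    fun h => y.1.isPrime.ne_top ((Ideal.eq_top_iff_one _).mpr h)
  rw [GrT.pt_smul, GrT.deh_of_mem ℳ hg hf]
  change GrT.fr ℳ y.1 f 1 h1 = (Localization.mk f ⟨g ^ m, hy⟩ : Twist.Loc ℳ y.1) • GrT.fr ℳ y.1 (g ^ m) 1 h1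
  rw [GrT.loc_smul_fr]
  exact GrT.fr_congr ℳ y.1 _ _ (by simp only [smul_eq_mul, mul_one, one_mul]; ring)

/-- The generator `h ^ m` on the chart of `h`. -/
theorem isGen_pow {m : ℕ} {g : Poly k N} (hg : g ∈ ℳ 1) :
    TMul.IsGen (res (GrTilde.tilde ℳ ℳ (m : ℤ)) (le_top : Proj.basicOpen ℳ g ≤ ⊤)
      (GrT.degSection (GrT.pow_mem_one ℳ hg m))) :=
  GrT.twistGen_bijective ℳ (GrT.pow_mem_one ℳ hg m) (SetLike.GradedOne.one_mem (A := ℳ)) (by simp)
    (fun y hy => (ProjectiveSpectrum.mem_basicOpen _ _ y).2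
      (GrT.not_mem_pow ℳ ((ProjectiveSpectrum.mem_basicOpen _ _ y).1 hy) m))
    (le_top.trans (Proj.basicOpen_one _).ge)

variable [IsAlgClosed k] {X : Scheme.{u}} (i : X ⟶ CohB1.ProjSpace N k) [IsClosedImmersion i] [Finite X]

omit [IsAlgClosed k] [Finite X] in
theorem notMem_support {y : P} (hy : ∀ x, i x ≠ y) : y ∉ CohB1.support (ClSub.quotMod i.ker) := fun h => by
  have h1 := CurveRR.support_quotMod i.ker h
  rw [Scheme.Hom.support_ker, i.isClosedEmbedding.isClosed_range.closure_eq] at h1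
  obtain ⟨x, hx⟩ := h1
  exact hy x hx

/-- Surjectivity on global sections. -/
theorem surjective_app (μ : X → ℕ)
    (hμ : ∀ x : X, IsLocalRing.maximalIdeal (X.presheaf.stalk x) ^ (μ x + 1) = ⊥) (j : ℤ)
    (hj : (∑ᶠ x : X, ((μ x + 1 : ℕ) : ℤ)) ≤ j + 1) :
    Function.Surjective ((tmap (ClSub.toSubscheme i.ker) (Twist.twistProjSpace N k j)).app ⊤) := by
  haveI : Infinite k := IsAlgClosed.instInfinite
  haveI : Fintype X := Fintype.ofFinite X
  have hL := CohFinite.isInvertible_twist N k j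
  intro q
  by_cases hX : IsEmpty X
  · refine ⟨0, (map_zero _).trans (section_eq_of_locally fun y hy => ?_).symm⟩
    have h := SuppZero.notMem_support_tensorMod _ _ hL (notMem_support i (y := y) fun x => hX.elim x)
    obtain ⟨W, hW, hyW, e⟩ := (Groth.Agent.QC.notMem_support_iff y).mp h ⊤ hy q
    exact ⟨W, hW, hyW, e.trans (map_zero _).symm⟩
  rw [finsum_eq_sum_of_fintype] at hj
  obtain ⟨m, rfl⟩ : ∃ m : ℕ, j = m := by
    refine ⟨j.toNat, (Int.toNat_of_nonneg ?_).symm⟩
    obtain ⟨x⟩ := not_isEmpty_iff.1 hX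
    have := Finset.single_le_sum (f := fun x => ((μ x + 1 : ℕ) : ℤ)) (fun x _ => by positivity) (Finset.mem_univ x)
    push_cast at this hj
    omega
  obtain ⟨h, hh⟩ := exists_form_avoid i
  set U : (P).Opens := Proj.basicOpen ℳ (h : Poly k N) with hUdef
  have hU : IsAffineOpen U := Proj.isAffineOpen_basicOpen _ _ h.2 one_pos
  have he := isGen_pow (m := m) h.2
  set e := res (GrTilde.tilde ℳ ℳ (m : ℤ)) (le_top : U ≤ ⊤) (GrT.degSection (GrT.pow_mem_one ℳ h.2 m)) with hedef
  obtain ⟨b, hb⟩ := (TMul.tm_bijective (M := ClSub.quotMod i.ker) he U le_rfl).2 (res _ le_top q)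
  rw [res_self] at hb
  obtain ⟨a, ha⟩ := i.ker.subschemeι_app_surjective ⟨U, hU⟩ b
  have hD : ∑ᶠ x : X, (μ x + 1) ≤ m + 1 := by
    rw [finsum_eq_sum_of_fintype]
    exact_mod_cast hj
  obtain ⟨f, hf, hfa⟩ := exists_form_interp i μ hμ h hh m hD ((i.app U).hom a)
  obtain ⟨w, hw0⟩ := (ConcreteCategory.bijective_of_isIso
    ((TMul.leftUnitIso (Twist.twistProjSpace N k (m : ℤ))).hom.app ⊤)).2 (GrT.degSection (𝒜 := ℳ) hf)
  have hw : res _ (le_top : U ≤ ⊤) w = tm (M := Coh.structureModule P) (GrT.deh ℳ h.2 f) e := by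
    apply ((ConcreteCategory.bijective_of_isIso
      ((TMul.leftUnitIso (Twist.twistProjSpace N k (m : ℤ))).hom.app U))).1
    rw [CurveRR.leftUnitIso_tm, ← app_res]
    exact (congrArg _ hw0).trans (res_degSection h.2 hf)
  refine ⟨w, sub_eq_zero.1 (section_eq_of_locally fun y hy => ?_)⟩
  by_cases hyU : y ∈ U
  · refine ⟨U, le_top, hyU, ?_⟩
    rw [map_zero, map_sub, sub_eq_zero, app_res, hw, tmap_tm]
    refine Eq.trans ?_ hb
    refine congrArg (fun z => tm (M := ClSub.quotMod i.ker) z e) ?_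
    refine Eq.trans ?_ ha
    have key : ∀ (d d' : Γ(P, U)), (i.app U).hom d = (i.app U).hom d' →
        (i.ker.subschemeι.app U).hom d = (i.ker.subschemeι.app U).hom d' := fun d d' hdd => by
      rw [← sub_eq_zero, ← map_sub] at hdd ⊢
      have h2 : d - d' ∈ RingHom.ker (i.app U).hom := hdd
      rw [← Scheme.Hom.ker_apply i ⟨U, hU⟩, ← i.ker.ker_subschemeι_app ⟨U, hU⟩] at h2
      exact h2
    exact key _ a hfa
  · have h' := SuppZero.notMem_support_tensorMod _ _ hL (notMem_support i (y := y) fun x e' => hyU (e' ▸ hh x))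
    obtain ⟨W, hW, hyW, e'⟩ := (Groth.Agent.QC.notMem_support_iff y).mp h' ⊤ hy
      ((tmap (ClSub.toSubscheme i.ker) (Twist.twistProjSpace N k (m : ℤ))).app ⊤ w - q)
    exact ⟨W, hW, hyW, e'.trans (map_zero _).symm⟩

/-- The ideal of finitely many fat points: vanishing of `H¹` and regularity. -/
theorem main (μ : X → ℕ)
    (hμ : ∀ x : X, IsLocalRing.maximalIdeal (X.presheaf.stalk x) ^ (μ x + 1) = ⊥) :
    (∀ j : ℤ, (∑ᶠ x : X, (μ x : ℤ)) + (Nat.card X : ℤ) - 1 ≤ j →
      Subsingleton (Coh.HH P (CohB1.tensorMod (ClSub.idealMod i.ker) (Twist.twistProjSpace N k j)) 1)) ∧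
    Curv2.IsMRegular k N (ClSub.idealMod i.ker) ((∑ᶠ x : X, (μ x : ℤ)) + (Nat.card X : ℤ)) := by
  haveI : Fintype X := Fintype.ofFinite X
  haveI : IsNoetherian P := CohFinite.isNoetherian_projSpace N k
  haveI := ProjMor.isProper_toSpec N k
  have hsum : (∑ᶠ x : X, ((μ x + 1 : ℕ) : ℤ)) = (∑ᶠ x : X, (μ x : ℤ)) + (Nat.card X : ℤ) := by
    simp only [finsum_eq_sum_of_fintype, Nat.cast_add, Nat.cast_one, Finset.sum_add_distrib, Finset.sum_const,
      Finset.card_univ, Nat.card_eq_fintype_card, nsmul_eq_mul, mul_one]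
  have hnn : 0 ≤ (∑ᶠ x : X, (μ x : ℤ)) + (Nat.card X : ℤ) :=
    add_nonneg (finsum_nonneg fun x => by positivity) (Nat.cast_nonneg _)
  set m := (∑ᶠ x : X, (μ x : ℤ)) + (Nat.card X : ℤ) with hm
  let S : ShortComplex (P).Modules :=
    ShortComplex.mk (ClSub.idealModι i.ker) (ClSub.toSubscheme i.ker) (kernel.condition _)
  have hS : ∀ j : ℤ, (ExtTwist.twS S j).ShortExact := fun j =>
    ExtTwist.shortExact_twS (CurveRR.ideal_shortExact i.ker) j
  have hZ : IsClosed (Set.range i) := i.isClosedEmbedding.isClosed_range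
  have hdim : topologicalKrullDim (Set.range i) ≤ 0 := by
    haveI : DiscreteTopology X := discreteTopology_iff_forall_isClosed.2 fun s => by
      rw [← Set.biUnion_of_singleton s]
      exact (Set.toFinite s).isClosed_biUnion fun x _ => isClosed_point (i ≫ CohB1.ProjSpace.toSpec N k) x
    haveI : DiscreteTopology (Set.range i) :=
      i.isClosedEmbedding.isEmbedding.toHomeomorph.symm.isEmbedding.discreteTopology
    rcases isEmpty_or_nonempty (Set.range i) with he | he
    · haveI : IsEmpty (IrreducibleCloseds (Set.range i)) := ⟨fun Z => he.elim Z.isIrreducible.nonempty.some⟩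
      exact le_of_eq_of_le Order.krullDim_eq_bot bot_le
    · exact topologicalKrullDim_zero_of_discreteTopology (Set.range i)
  have hQ : ∀ (j : ℤ) (p : ℕ), 1 ≤ p →
      Subsingleton (Coh.HH P (CohB1.tensorMod (ClSub.quotMod i.ker) (Twist.twistProjSpace N k j)) p) := fun j p hp =>
    SuppZero.subsingleton_hh_of_supported hZ hdim _
      (fun y hy => SuppZero.notMem_support_tensorMod _ _ (CohFinite.isInvertible_twist N k j)
        (notMem_support i fun x e => hy ⟨x, e⟩)) p hp
  have hO : ∀ (j : ℤ) (p : ℕ), 1 ≤ p → ¬(p = N ∧ j ≤ -((N : ℤ) + 1)) →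
      Subsingleton (Coh.HH P (CohB1.tensorMod (Coh.structureModule P) (Twist.twistProjSpace N k j)) p) := fun j p hp hn => by
    haveI := ProjCech.twist_vanish (R := k) N j p (fun h => by omega) hn
    exact (CohFinite.hhEquiv k (TMul.leftUnitIso (Twist.twistProjSpace N k j)) p).toEquiv.subsingleton
  have h1 : ∀ j : ℤ, m - 1 ≤ j →
      Subsingleton (Coh.HH P (CohB1.tensorMod (ClSub.idealMod i.ker) (Twist.twistProjSpace N k j)) 1) := by
    intro j hj
    haveI := hO j 1 le_rfl (fun h => by omega)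
    exact (ExtTwist.injective_succ (k := k) (hS j) 0
      (ExtTwist.surjective_h0 _ (surjective_app i μ hμ j (by rw [hsum]; omega)))).subsingleton
  refine ⟨h1, fun q hq hqN => ?_⟩
  rcases eq_or_lt_of_le hq with rfl | hq'
  · exact h1 _ (by norm_num)
  obtain ⟨p, rfl⟩ : ∃ p, q = p + 1 := ⟨q - 1, by omega⟩
  haveI := hQ (m - ((p + 1 : ℕ) : ℤ)) p (by omega)
  haveI := hO (m - ((p + 1 : ℕ) : ℤ)) (p + 1) (by omega) (fun h => by push_cast at h; omega)
  exact (ExtTwist.injective_succ (k := k) (hS _) p fun y => ⟨0, Subsingleton.elim _ _⟩).subsingleton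

end Groth.Agent.FinPtsInterp
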