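import Groth.Agent.FinPtsInterp.Alg
import Groth.Agent.SerrePn.LinForms
import Groth.Agent.ProjMor.Morph

/-!
A finite closed subscheme of projective space: forms of degree `D` restrict onto the functions when
`D + 1` is at least the total thickness.
-/

set_option autoImplicit false
set_option backward.isDefEq.respectTransparency false
set_option backward.isDefEq.respectTransparency.types false

universe u

open CategoryTheory CategoryTheory.Limits AlgebraicGeometry TopologicalSpace Opposite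
open Groth.Agent.SerrePn (Poly Forms formsAt)

noncomputable section

namespace Groth.Agent.FinPtsInterp

variable {k : Type u} [Field k] {N : ℕ} {X : Scheme.{u}} (i : X ⟶ CohB1.ProjSpace N k)

/-- Every point of a finite scheme of finite type over a field is closed. -/
theorem isClosed_point {S : Scheme.{u}} (f : X ⟶ S) [LocallyOfFiniteType f] [JacobsonSpace S] [Finite X] (x : X) :
    IsClosed ({x} : Set X) := by
  haveI := LocallyOfFiniteType.jacobsonSpace f
  have hC : IsClosed (closedPoints X) := by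
    rw [← Set.biUnion_of_singleton (closedPoints X)]
    exact (Set.toFinite _).isClosed_biUnion fun y hy => mem_closedPoints_iff.1 hy
  have h := hC.closure_eq.symm.trans (closure_closedPoints (X := X))
  exact mem_closedPoints_iff.1 (h ▸ Set.mem_univ x)

/-- A linear form vanishing at none of finitely many points. -/
theorem exists_form_avoid [Infinite k] [Finite X] :
    ∃ h : Forms k N, ∀ x : X, i x ∈ Proj.basicOpen (CohB1.polyGrading N k) (h : Poly k N) := by
  obtain ⟨h, hh⟩ := Submodule.exists_forall_notMem_of_forall_ne_top (fun x : X => formsAt (i x))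
    fun x => SerrePn.formsAt_ne_top _
  exact ⟨h, fun x => (ProjectiveSpectrum.mem_basicOpen _ _ _).2 (hh x)⟩

section

variable [IsAlgClosed k] [IsClosedImmersion i] [Finite X]

/-- Interpolation by forms of degree `D`. -/
theorem exists_form_interp (μ : X → ℕ)
    (hμ : ∀ x : X, IsLocalRing.maximalIdeal (X.presheaf.stalk x) ^ (μ x + 1) = ⊥) (h : Forms k N)
    (hh : ∀ x : X, i x ∈ Proj.basicOpen (CohB1.polyGrading N k) (h : Poly k N)) (D : ℕ)
    (hD : ∑ᶠ x : X, (μ x + 1) ≤ D + 1)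
    (b : Γ(X, i ⁻¹ᵁ Proj.basicOpen (CohB1.polyGrading N k) (h : Poly k N))) :
    ∃ f ∈ CohB1.polyGrading N k D,
      (i.app (Proj.basicOpen (CohB1.polyGrading N k) (h : Poly k N))).hom (GrT.deh _ h.2 f) = b := by
  haveI : Fintype X := Fintype.ofFinite X
  let U := Proj.basicOpen (CohB1.polyGrading N k) (h : Poly k N)
  have hU : IsAffineOpen U := Proj.isAffineOpen_basicOpen _ _ h.2 one_pos
  have hV : IsAffineOpen (i ⁻¹ᵁ U) := hU.preimage i
  let φ : Poly k N →+* Γ(X, i ⁻¹ᵁ U) := (i.app U).hom.comp (GrT.deh _ h.2)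
  have hφ : Function.Surjective φ := fun y => by
    obtain ⟨z, rfl⟩ := i.app_surjective U hU y
    obtain ⟨a, rfl⟩ := ProjMor.exists_deh_eq (𝒜 := CohB1.polyGrading N k) h.2 z
    exact ⟨a, rfl⟩
  letI : Algebra k Γ(X, i ⁻¹ᵁ U) := (φ.comp MvPolynomial.C).toAlgebra
  let φa : Poly k N →ₐ[k] Γ(X, i ⁻¹ᵁ U) := { φ with commutes' := fun c => rfl }
  let V : Submodule k Γ(X, i ⁻¹ᵁ U) := (CohB1.polyGrading N k 1).map φa.toLinearMap
  have h1 : (1 : Γ(X, i ⁻¹ᵁ U)) ∈ V :=
    ⟨(h : Poly k N), h.2, show (i.app U).hom (GrT.deh _ h.2 (h : Poly k N)) = 1 by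
      rw [GrT.deh_self, map_one]⟩
  have hgen : Algebra.adjoin k (V : Set Γ(X, i ⁻¹ᵁ U)) = ⊤ := eq_top_iff.2 fun y hy => by
    clear hy
    obtain ⟨p, rfl⟩ := hφ y
    show φa p ∈ _
    induction p using MvPolynomial.induction_on with
    | C c => exact (φa.commutes c).symm ▸ Subalgebra.algebraMap_mem _ c
    | add p q hp hq => rw [map_add]; exact add_mem hp hq
    | mul_X p j hp =>
      rw [map_mul]
      exact mul_mem hp (Algebra.subset_adjoin ⟨MvPolynomial.X j, MvPolynomial.isHomogeneous_X k j, rfl⟩)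
  have hpow : ∀ d : ℕ, V ^ d ≤ (CohB1.polyGrading N k d).map φa.toLinearMap := by
    intro d
    induction d with
    | zero =>
      rw [pow_zero, Submodule.one_le]
      exact ⟨1, SetLike.GradedOne.one_mem, map_one φa⟩
    | succ d ih =>
      rw [pow_succ, Submodule.mul_le]
      rintro y hy z ⟨q, hq, rfl⟩
      obtain ⟨p, hp, rfl⟩ := ih hy
      exact ⟨p * q, SetLike.mul_mem_graded hp hq, map_mul φa p q⟩
  let m : X → Ideal Γ(X, i ⁻¹ᵁ U) := fun x =>
    (IsLocalRing.maximalIdeal (X.presheaf.stalk x)).comap (X.presheaf.germ (i ⁻¹ᵁ U) x (hh x)).hom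
  have hm : ∀ x : X, (hV.primeIdealOf ⟨x, hh x⟩).asIdeal = m x := fun x => by
    rw [hV.primeIdealOf_eq_map_closedPoint]; rfl
  haveI := ProjMor.isProper_toSpec N k
  haveI : LocallyOfFiniteType (i ≫ CohB1.ProjSpace.toSpec N k) := inferInstance
  have hmax : ∀ x : X, (m x).IsMaximal := fun x =>
    hm x ▸ hV.primeIdealOf_isMaximal_of_isClosed ⟨x, hh x⟩ (isClosed_point (i ≫ CohB1.ProjSpace.toSpec N k) x)
  have hinj : Function.Injective m := fun x y e => by
    have e' : hV.primeIdealOf ⟨x, hh x⟩ = hV.primeIdealOf ⟨y, hh y⟩ :=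
      PrimeSpectrum.ext ((hm x).trans (e.trans (hm y).symm))
    have := congrArg hV.fromSpec e'
    rwa [hV.fromSpec_primeIdealOf, hV.fromSpec_primeIdealOf] at this
  haveI : Algebra.FiniteType k Γ(X, i ⁻¹ᵁ U) := Algebra.FiniteType.of_surjective φa hφ
  have hres : ∀ (x : X) (y : Γ(X, i ⁻¹ᵁ U)), ∃ c : k, y - algebraMap k _ c ∈ m x := fun x y => by
    haveI := hmax x
    letI : Field (Γ(X, i ⁻¹ᵁ U) ⧸ m x) := Ideal.Quotient.field (m x)
    haveI : Algebra.FiniteType k (Γ(X, i ⁻¹ᵁ U) ⧸ m x) :=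
      Algebra.FiniteType.of_surjective (Ideal.Quotient.mkₐ k (m x)) Ideal.Quotient.mk_surjective
    haveI := finite_of_finite_type_of_isJacobsonRing k (Γ(X, i ⁻¹ᵁ U) ⧸ m x)
    obtain ⟨c, hc⟩ := (IsAlgClosed.algebraMap_bijective_of_isIntegral (k := k)
      (K := Γ(X, i ⁻¹ᵁ U) ⧸ m x)).2 (Ideal.Quotient.mk (m x) y)
    exact ⟨c, Ideal.Quotient.eq.1 hc.symm⟩
  have hzero : ∀ y : Γ(X, i ⁻¹ᵁ U), (∀ x, y ∈ m x ^ (μ x + 1)) → y = 0 := fun y hy =>
    TopCat.Presheaf.section_ext X.sheaf (i ⁻¹ᵁ U) y 0 fun x _ => by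
      have h0 := Ideal.le_comap_pow (X.presheaf.germ (i ⁻¹ᵁ U) x (hh x)).hom (μ x + 1) (hy x)
      rw [hμ x, Ideal.mem_comap, Ideal.mem_bot] at h0
      exact h0.trans (map_zero _).symm
  rw [finsum_eq_sum_of_fintype] at hD
  have htop := pow_eq_top h1 hgen m hmax hinj hres μ hzero D hD
  obtain ⟨f, hf, hfb⟩ := hpow D (htop ▸ Submodule.mem_top : b ∈ V ^ D)
  exact ⟨f, hf, hfb⟩

end

end Groth.Agent.FinPtsInterp
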